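import Groth.Prelude.Def_NumR
import Groth.Agent.H11Ample.Basic
import Groth.Agent.H10Coh.FinType2
import Groth.Agent.H11Sym.InvertibleInverse
import Groth.Agent.H11Ample.Tensor
import Groth.Agent.H22Alg.KosTwist
import Groth.Agent.H29RR.MonoHom
import Mathlib.Analysis.Convex.Topology

/-!
# The big cone: ample plus effective, openness, interior of the pseudo-effective cone
-/

set_option autoImplicit false
set_option linter.style.haveILetI false
set_option linter.unusedSectionVars false
set_option backward.isDefEq.respectTransparency.types false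
universe u

open CategoryTheory CategoryTheory.Limits AlgebraicGeometry Opposite TopologicalSpace
open Groth.Agent.H11Tilde Groth.Agent.H11Ample

namespace Groth.Agent.H26Num

variable {X : Scheme.{u}}

/-- Bigness: every ample invertible module embeds in some positive power. -/
def IsBig (L : X.Modules) : Prop :=
  ∀ A : X.Modules, CohB1.IsAmple A → ∃ (m : ℕ) (φ : A ⟶ CohB1.tensorPow L m), 0 < m ∧ Mono φ

section Sections

theorem val_zero (L : X.Modules) :
    SecTwist.val (0 : Coh.structureModule X ⟶ L) ⊤ = 0 := rfl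

theorem sec_ne_zero_of_isGen {L : X.Modules} {V : X.Opens} {e : Γ(L, V)} (he : IsGen L e) {y : X} (hy : y ∈ V) :
    e ≠ 0 := by
  intro h0
  have h1 := (he y hy).1 (a₁ := 1) (a₂ := 0)
  simp only [one_smul, zero_smul, h0, map_zero, forall_const] at h1
  exact one_ne_zero h1

/-- A section generating somewhere gives a nonzero morphism. -/
theorem hasSection_of_gen {L : X.Modules} {g : Γ(L, ⊤)} {y : X} (hy : y ∈ gen L g) : NumR.HasSection L := by
  refine ⟨homOfGlobal L g, fun h => sec_ne_zero_of_isGen (isGen_gen g) hy ?_⟩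
  have : g = 0 := by rw [← val_homOfGlobal (L := L) g, h]; exact val_zero L
  rw [this]
  exact map_zero _

variable [IsIntegral X]

/-- On an integral scheme a nonzero section generates somewhere. -/
theorem exists_gen_of_hasSection {L : X.Modules} (hL : PicF.IsInvertible L) (h : NumR.HasSection L) :
    ∃ g : Γ(L, ⊤), (gen L g : Set X).Nonempty := by
  obtain ⟨s, hs⟩ := h
  refine ⟨SecTwist.val s ⊤, ?_⟩
  by_contra hne
  rw [Set.not_nonempty_iff_eq_empty] at hne
  refine hs ?_
  have h0 : SecTwist.val s ⊤ = 0 := by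
    refine eq_of_locally _ _ fun x hx => ?_
    obtain ⟨V, e, hxV, he⟩ := exists_gen hL x
    refine ⟨V, le_top, hxV, ?_⟩
    obtain ⟨c, hc⟩ := exists_coeff he (L.presheaf.map (homOfLE (le_top : V ≤ ⊤)).op (SecTwist.val s ⊤))
    have hb : X.basicOpen c = ⊥ := by
      rw [← gen_inf_eq_basicOpen he _ c hc]
      refine SetLike.coe_injective ?_
      simp [hne]
    rw [hc, (basicOpen_eq_bot_iff c).1 hb, zero_smul]
    exact (map_zero _).symm
  refine Scheme.Modules.hom_ext _ _ fun W => ?_
  ext r
  refine (H06Mod.app_unit s W r).trans ?_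
  have h1 : L.presheaf.map (homOfLE (le_top : W ≤ ⊤)).op (SecTwist.val s ⊤) = 0 := by rw [h0]; exact map_zero _
  exact (congrArg (fun t => (show Γ(X, W) from r) • t) h1).trans (smul_zero _)

/-- A section gives a monomorphism `A ⟶ A ⊗ N`. -/
theorem exists_mono_of_hasSection [IsLocallyNoetherian X] {A N M : X.Modules} (hA : PicF.IsInvertible A)
    (hN : PicF.IsInvertible N) (hM : PicF.IsInvertible M) (h : NumR.HasSection N)
    (e : CohB1.tensorMod A N ≅ M) : ∃ φ : A ⟶ M, Mono φ := by
  obtain ⟨g, y, hy⟩ := exists_gen_of_hasSection hN h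
  obtain ⟨V, a, hyV, ha⟩ := exists_gen hA y
  refine ⟨H22Alg.KosTwist.mulHom A g ≫ e.hom, ?_⟩
  haveI : Mono (H22Alg.KosTwist.mulHom A g) := by
    refine (H29RR.mono_of_ne_zero hA (isInvertible_tensor hA hN) fun h0 => ?_).1
    let W := V ⊓ gen N g
    have hyW : y ∈ W := ⟨hyV, hy⟩
    have h1 := H22Alg.KosTwist.mulHom_app A g W (A.presheaf.map (homOfLE (inf_le_left : W ≤ V)).op a)
    have h2 : IsGen (CohB1.tensorMod A N) (tm (A.presheaf.map (homOfLE (inf_le_left : W ≤ V)).op a)
        (N.presheaf.map (homOfLE (le_top : W ≤ ⊤)).op g)) := by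
      refine isGen_tm (ha.res inf_le_left) ?_
      have := (isGen_gen g).res (inf_le_right : W ≤ gen N g)
      rwa [H10Coh.mres_mres] at this
    refine sec_ne_zero_of_isGen h2 hyW ?_
    rw [← h1, h0]
    rfl
  exact mono_comp _ _

/-- A monomorphism out of an invertible module gives a section of the twist. -/
theorem hasSection_of_mono {A A' M : X.Modules} (hA : PicF.IsInvertible A) (hA' : PicF.IsInvertible A')
    (e : CohB1.tensorMod A A' ≅ Coh.structureModule X) {φ : A ⟶ M} [Mono φ] :
    NumR.HasSection (CohB1.tensorMod M A') := by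
  refine ⟨e.inv ≫ LimSh.tensorModMap φ A', fun h0 => ?_⟩
  have h1 : LimSh.tensorModMap φ A' = 0 := by
    rw [← cancel_epi e.inv, h0, comp_zero]
  obtain ⟨x⟩ : Nonempty X := inferInstance
  obtain ⟨V, a, hxV, ha⟩ := exists_gen hA x
  obtain ⟨V', a', hxV', ha'⟩ := exists_gen hA' x
  let W := V ⊓ V'
  have h2 := H10Coh.Tw.map_tm φ A' (A.presheaf.map (homOfLE (inf_le_left : W ≤ V)).op a)
    (A'.presheaf.map (homOfLE (inf_le_right : W ≤ V')).op a')
  rw [h1] at h2
  have h3 : φ.app W (A.presheaf.map (homOfLE (inf_le_left : W ≤ V)).op a) = 0 := by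
    refine H10Coh.Tw.tm_inj (ha'.res inf_le_right) ?_
    rw [H11Ample.tm_zero_left, ← h2]
    rfl
  exact sec_ne_zero_of_isGen (ha.res (inf_le_left : W ≤ V)) (y := x) ⟨hxV, hxV'⟩
    (H10Coh.injective_app_of_mono' φ W (h3.trans (map_zero _).symm))

/-- A globally generated invertible module has a nonzero section. -/
theorem hasSection_of_globallyGenerated {L : X.Modules} (hL : PicF.IsInvertible L)
    (h : Curv2.IsGloballyGenerated L) : NumR.HasSection L := by
  obtain ⟨x⟩ : Nonempty X := inferInstance
  obtain ⟨g, hg⟩ := exists_mem_gen_of_isGloballyGenerated hL h x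
  exact hasSection_of_gen hg

end Sections

variable (k : Type u) [Field k] [X.Over (Spec (CommRingCat.of k))] [PicGrp.Law X]

theorem clR_congr {L M : X.Modules} (hL : PicF.IsInvertible L) (hM : PicF.IsInvertible M) (e : L ≅ M) :
    NumR.clR k X L hL = NumR.clR k X M hM := by
  rw [NumR.clR, NumR.clR, NumR.cl, NumR.cl, (PicGrp.cls_eq_cls_iff hL hM).2 ⟨e⟩]

theorem clR_tensor {L M : X.Modules} (hL : PicF.IsInvertible L) (hM : PicF.IsInvertible M)
    (hLM : PicF.IsInvertible (CohB1.tensorMod L M)) :
    NumR.clR k X (CohB1.tensorMod L M) hLM = NumR.clR k X L hL + NumR.clR k X M hM := by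
  have h : PicGrp.cls (CohB1.tensorMod L M) hLM = PicGrp.cls L hL * PicGrp.cls M hM :=
    Subtype.ext (PicGrp.cls_mul_cls_val hL hM).symm
  rw [NumR.clR, NumR.clR, NumR.clR, NumR.cl, NumR.cl, NumR.cl, h, ofMul_mul, map_add, map_add]

theorem clR_structure (hO : PicF.IsInvertible (Coh.structureModule X)) :
    NumR.clR k X (Coh.structureModule X) hO = 0 := by
  rw [NumR.clR, NumR.cl, show PicGrp.cls (Coh.structureModule X) hO = 1 from PicGrp.cls_structureModule_eq_one,
    ofMul_one, map_zero, map_zero]

theorem clR_pow {L : X.Modules} (hL : PicF.IsInvertible L) (n : ℕ) :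
    NumR.clR k X (CohB1.tensorPow L n) (H11Ample.isInvertible_tensorPow hL n) = (n : ℝ) • NumR.clR k X L hL := by
  induction n with
  | zero => rw [Nat.cast_zero, zero_smul]; exact clR_structure k _
  | succ n ih =>
    refine (clR_tensor k (H11Ample.isInvertible_tensorPow hL n) hL _).trans ?_
    rw [ih, Nat.cast_succ, add_smul, one_smul]

theorem clR_inv {L L' : X.Modules} (hL : PicF.IsInvertible L) (hL' : PicF.IsInvertible L')
    (e : CohB1.tensorMod L L' ≅ Coh.structureModule X) : NumR.clR k X L' hL' = - NumR.clR k X L hL := by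
  have h := clR_tensor k hL hL' (H11Ample.isInvertible_tensor hL hL')
  rw [clR_congr k _ (PicLoc.isInvertible_structureModule X) e, clR_structure] at h
  exact eq_neg_of_add_eq_zero_right h.symm

/-- A finite basis made of classes of modules. -/
theorem exists_basis [Module.Finite ℝ (NumR.N1R k X)] :
    ∃ (n : ℕ) (c : Module.Basis (Fin n) ℝ (NumR.N1R k X)) (f : Fin n → X.Modules) (hf : ∀ i, PicF.IsInvertible (f i)),
      ∀ i, c i = NumR.clR k X (f i) (hf i) := by
  obtain ⟨s, hs, hspan, hli⟩ := exists_linearIndependent ℝ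
    {x : NumR.N1R k X | ∃ (L : X.Modules) (hL : PicF.IsInvertible L), x = NumR.clR k X L hL}
  rw [NumR.span_clR] at hspan
  let b := Module.Basis.mk hli (by rw [Subtype.range_coe]; exact hspan.ge)
  haveI : Finite s := Module.Finite.finite_basis b
  haveI := Fintype.ofFinite s
  let c := b.reindex (Fintype.equivFin s)
  have hc : ∀ i, c i ∈ {x : NumR.N1R k X | ∃ (L : X.Modules) (hL : PicF.IsInvertible L), x = NumR.clR k X L hL} := by
    intro i
    simp only [c, b, Module.Basis.reindex_apply, Module.Basis.mk_apply]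
    exact hs ((Fintype.equivFin s).symm i).2
  choose f hf hcf using hc
  exact ⟨_, c, f, hf, hcf⟩

theorem cls_tensor {L M : X.Modules} (hL : PicF.IsInvertible L) (hM : PicF.IsInvertible M)
    (hLM : PicF.IsInvertible (CohB1.tensorMod L M)) :
    PicGrp.cls (CohB1.tensorMod L M) hLM = PicGrp.cls L hL * PicGrp.cls M hM :=
  Subtype.ext (PicGrp.cls_mul_cls_val hL hM).symm

theorem cls_pow {L : X.Modules} (hL : PicF.IsInvertible L) (n : ℕ)
    (hn : PicF.IsInvertible (CohB1.tensorPow L n)) :
    PicGrp.cls (CohB1.tensorPow L n) hn = PicGrp.cls L hL ^ n := by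
  induction n with
  | zero => rw [pow_zero]; exact PicGrp.cls_structureModule_eq_one
  | succ n ih =>
    refine (cls_tensor (isInvertible_tensorPow hL n) hL hn).trans ?_
    rw [ih, pow_succ]

variable [IsProper (X ↘ Spec (CommRingCat.of k))]

include k in
theorem isSeparated' : X.IsSeparated := ⟨by
  rw [show terminal.from X = (X ↘ Spec (CommRingCat.of k)) ≫ terminal.from _ from terminal.hom_ext _ _]
  infer_instance⟩

include k in
theorem isNoetherian' : IsNoetherian X := by
  haveI : CompactSpace X := QuasiCompact.compactSpace_of_compactSpace (X ↘ Spec (CommRingCat.of k))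
  haveI : IsLocallyNoetherian X := LocallyOfFiniteType.isLocallyNoetherian (X ↘ Spec (CommRingCat.of k))
  exact {}

variable [IsIntegral X]

/-- An ample class is effective up to a positive multiple. -/
theorem clR_mem_effCone {A : X.Modules} (hA : CohB1.IsAmple A) :
    NumR.clR k X A hA.1 ∈ NumR.effCone k X := by
  haveI := isNoetherian' k (X := X)
  haveI := isSeparated' k (X := X)
  have hO := PicLoc.isInvertible_structureModule X
  obtain ⟨n₀, hn₀, h⟩ := eventually_ample_tensor hA hO
  have hi := isInvertible_tensor (isInvertible_tensorPow hA.1 n₀) hO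
  have hm : NumR.clR k X _ hi ∈ NumR.effCone k X := ConvexCone.subset_hull
    ⟨_, hi, hasSection_of_globallyGenerated hi (h n₀ le_rfl).2, rfl⟩
  have h2 := (NumR.effCone k X).smul_mem (inv_pos.2 (Nat.cast_pos.2 hn₀ : (0 : ℝ) < n₀)) hm
  rwa [clR_tensor k (isInvertible_tensorPow hA.1 n₀) hO, clR_pow k hA.1, clR_structure,
    add_zero, inv_smul_smul₀ (Nat.cast_ne_zero.2 hn₀.ne')] at h2

theorem ampleCone_le_effCone : NumR.ampleCone k X ≤ NumR.effCone k X :=
  ConvexCone.hull_min fun x hx => by
    obtain ⟨L, hL, hA, rfl⟩ := hx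
    exact clR_mem_effCone k hA

include k in
/-- `A ⊗ E^N` is big for `A` ample and `E` with a section. -/
theorem isBig_ample_tensor {A E : X.Modules} (hA : CohB1.IsAmple A) (hE : PicF.IsInvertible E)
    (hEs : NumR.HasSection E) (N : ℕ) : IsBig (CohB1.tensorMod A (CohB1.tensorPow E N)) := by
  haveI := isNoetherian' k (X := X)
  haveI := isSeparated' k (X := X)
  intro B hB
  obtain ⟨B', hB', ⟨e₀⟩⟩ := H11Sym.exists_inverse hB.1
  obtain ⟨m, hm, h⟩ := eventually_ample_tensor hA hB'
  have h1 := isInvertible_tensor (isInvertible_tensorPow hA.1 m) hB'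
  have h2 := isInvertible_tensor h1 (isInvertible_tensorPow hE (N * m))
  have hL := isInvertible_tensor hA.1 (isInvertible_tensorPow hE N)
  have hsec : NumR.HasSection (CohB1.tensorMod (CohB1.tensorMod (CohB1.tensorPow A m) B')
      (CohB1.tensorPow E (N * m))) := by
    obtain ⟨x⟩ : Nonempty X := inferInstance
    obtain ⟨g, hg⟩ := exists_mem_gen_of_isGloballyGenerated h1 (h m le_rfl).2 x
    obtain ⟨t, y, hy⟩ := exists_gen_of_hasSection hE hEs
    obtain ⟨z, hz⟩ := nonempty_preirreducible_inter (gen _ g).isOpen (gen E t).isOpen ⟨x, hg⟩ ⟨y, hy⟩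
    refine hasSection_of_gen (g := tm g (spow t (N * m))) (y := z) ?_
    rw [gen_tm h1 (isInvertible_tensorPow hE _)]
    refine ⟨hz.1, ?_⟩
    have h3 := isGen_spow ((isGen_gen t)) (N * m)
    rw [← spow_res le_top] at h3
    exact mem_gen_of_isGen h3 hz.2
  have he := (PicGrp.cls_mul_cls_eq_one_iff hB' hB.1).2 ⟨e₀⟩
  obtain ⟨e⟩ : Nonempty (CohB1.tensorMod B (CohB1.tensorMod (CohB1.tensorMod (CohB1.tensorPow A m) B')
      (CohB1.tensorPow E (N * m))) ≅ CohB1.tensorPow (CohB1.tensorMod A (CohB1.tensorPow E N)) m) := by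
    refine (PicGrp.cls_eq_cls_iff (isInvertible_tensor hB.1 h2) (isInvertible_tensorPow hL m)).1 ?_
    rw [cls_pow hL, cls_tensor hB.1 h2, cls_tensor h1 (isInvertible_tensorPow hE _),
      cls_tensor (isInvertible_tensorPow hA.1 m) hB', cls_tensor hA.1 (isInvertible_tensorPow hE N),
      cls_pow hA.1, cls_pow hE, cls_pow hE, mul_pow, ← pow_mul]
    rw [show ∀ a b c d : PicLoc.PicSet X, a * (b * c * d) = (c * a) * (b * d) from fun a b c d => by
      ac_rfl, he, one_mul]
  obtain ⟨φ, hφ⟩ := exists_mono_of_hasSection hB.1 h2 (isInvertible_tensorPow hL m) hsec e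
  exact ⟨m, φ, hm, hφ⟩

include k in
/-- An ample module is big. -/
theorem isBig_of_ample {A : X.Modules} (hA : CohB1.IsAmple A) : IsBig A := by
  haveI := isNoetherian' k (X := X)
  haveI := isSeparated' k (X := X)
  intro B hB
  obtain ⟨B', hB', ⟨e₀⟩⟩ := H11Sym.exists_inverse hB.1
  obtain ⟨m, hm, h⟩ := eventually_ample_tensor hA hB'
  have h1 := isInvertible_tensor (isInvertible_tensorPow hA.1 m) hB'
  have he := (PicGrp.cls_mul_cls_eq_one_iff hB' hB.1).2 ⟨e₀⟩
  obtain ⟨e⟩ : Nonempty (CohB1.tensorMod B (CohB1.tensorMod (CohB1.tensorPow A m) B') ≅ CohB1.tensorPow A m) := by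
    refine (PicGrp.cls_eq_cls_iff (isInvertible_tensor hB.1 h1) (isInvertible_tensorPow hA.1 m)).1 ?_
    rw [cls_tensor hB.1 h1, cls_tensor (isInvertible_tensorPow hA.1 m) hB', mul_left_comm, mul_comm (PicGrp.cls B _),
      he, mul_one]
  obtain ⟨φ, hφ⟩ := exists_mono_of_hasSection hB.1 h1 (isInvertible_tensorPow hA.1 m)
    (hasSection_of_globallyGenerated h1 (h m le_rfl).2) e
  exact ⟨m, φ, hm, hφ⟩

/-- The big cone is the sum of the ample cone and the effective cone. -/
theorem mem_bigCone_iff {H : X.Modules} (hH : CohB1.IsAmple H) (x : NumR.N1R k X) :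
    x ∈ NumR.coneOf k X IsBig ↔ ∃ a ∈ NumR.ampleCone k X, x - a ∈ NumR.effCone k X := by
  haveI := isNoetherian' k (X := X)
  let K := NumR.coneOf k X IsBig
  constructor
  · let S : ConvexCone ℝ (NumR.N1R k X) :=
      { carrier := {x | ∃ a ∈ NumR.ampleCone k X, x - a ∈ NumR.effCone k X}
        smul_mem' := fun c hc x hx => by
          obtain ⟨a, ha, he⟩ := hx
          exact ⟨c • a, (NumR.ampleCone k X).smul_mem hc ha, by
            rw [← smul_sub]; exact (NumR.effCone k X).smul_mem hc he⟩
        add_mem' := fun x hx y hy => by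
          obtain ⟨a, ha, he⟩ := hx
          obtain ⟨b, hb, hf⟩ := hy
          exact ⟨a + b, (NumR.ampleCone k X).add_mem ha hb, by
            rw [add_sub_add_comm]; exact (NumR.effCone k X).add_mem he hf⟩ }
    have hle : K ≤ S := ConvexCone.hull_min fun x hx => by
      obtain ⟨L, hL, hbig, rfl⟩ := hx
      obtain ⟨m, φ, hm, hφ⟩ := hbig H hH
      obtain ⟨H', hH', ⟨e₀⟩⟩ := H11Sym.exists_inverse hH.1
      have hLm := isInvertible_tensorPow hL m
      obtain ⟨e⟩ : Nonempty (CohB1.tensorMod H H' ≅ Coh.structureModule X) :=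
        (PicGrp.cls_mul_cls_eq_one_iff hH.1 hH').1 (by
          rw [mul_comm]; exact (PicGrp.cls_mul_cls_eq_one_iff hH' hH.1).2 ⟨e₀⟩)
      have hs : NumR.HasSection (CohB1.tensorMod (CohB1.tensorPow L m) H') := hasSection_of_mono hH.1 hH' e (φ := φ)
      have hi := isInvertible_tensor hLm hH'
      have he : NumR.clR k X _ hi ∈ NumR.effCone k X := ConvexCone.subset_hull ⟨_, hi, hs, rfl⟩
      rw [clR_tensor k hLm hH', clR_pow k hL, clR_inv k hH.1 hH' e] at he
      have hm' : (0 : ℝ) < m := Nat.cast_pos.2 hm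
      refine ⟨(m : ℝ)⁻¹ • NumR.clR k X H hH.1, (NumR.ampleCone k X).smul_mem (inv_pos.2 hm')
        (ConvexCone.subset_hull ⟨H, hH.1, hH, rfl⟩), ?_⟩
      have h2 := (NumR.effCone k X).smul_mem (inv_pos.2 hm') he
      convert h2 using 1
      rw [smul_add, inv_smul_smul₀ hm'.ne', smul_neg, sub_eq_add_neg]
    exact fun hx => hle hx
  · rintro ⟨a, ha, he⟩
    let T : ConvexCone ℝ (NumR.N1R k X) :=
      { carrier := {e | ∀ a ∈ NumR.ampleCone k X, a + e ∈ K}
        smul_mem' := fun c hc e he a ha => by
          have h := K.smul_mem hc (he _ ((NumR.ampleCone k X).smul_mem (inv_pos.2 hc) ha))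
          rwa [smul_add, smul_inv_smul₀ hc.ne'] at h
        add_mem' := fun e he f hf a ha => by
          have h2 : (0 : ℝ) < 2⁻¹ := by norm_num
          have h := K.add_mem (he _ ((NumR.ampleCone k X).smul_mem h2 ha))
            (hf _ ((NumR.ampleCone k X).smul_mem h2 ha))
          convert h using 1
          module }
    have hT : NumR.effCone k X ≤ T := ConvexCone.hull_min fun e he => by
      obtain ⟨E, hE, hEs, rfl⟩ := he
      let U : ConvexCone ℝ (NumR.N1R k X) :=
        { carrier := {a | ∀ r : ℝ, 0 < r → a + r • NumR.clR k X E hE ∈ K}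
          smul_mem' := fun c hc a ha r hr => by
            have h := K.smul_mem hc (ha (c⁻¹ * r) (mul_pos (inv_pos.2 hc) hr))
            rwa [smul_add, smul_smul, ← mul_assoc, mul_inv_cancel₀ hc.ne', one_mul] at h
          add_mem' := fun a ha b hb r hr => by
            have h := K.add_mem (ha (r / 2) (half_pos hr)) (hb (r / 2) (half_pos hr))
            convert h using 1
            module }
      have hU : NumR.ampleCone k X ≤ U := ConvexCone.hull_min fun a ha => by
        obtain ⟨A, hA, hAa, rfl⟩ := ha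
        intro r hr
        obtain ⟨N, hN⟩ := exists_nat_gt r
        have hN0 : (0 : ℝ) < N := hr.trans hN
        have hi := isInvertible_tensor hA (isInvertible_tensorPow hE N)
        have h1 : NumR.clR k X _ hi ∈ K :=
          ConvexCone.subset_hull ⟨_, hi, isBig_ample_tensor k hAa hE hEs N, rfl⟩
        rw [clR_tensor k hA (isInvertible_tensorPow hE N), clR_pow k hE] at h1
        have h2 : NumR.clR k X A hA ∈ K := ConvexCone.subset_hull ⟨A, hA, isBig_of_ample k hAa, rfl⟩
        have h := K.add_mem (K.smul_mem (div_pos hr hN0) h1)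
          (K.smul_mem (show (0 : ℝ) < 1 - r / N by rw [sub_pos, div_lt_one hN0]; exact hN) h2)
        convert h using 1
        rw [smul_add, smul_smul, div_mul_cancel₀ r hN0.ne', sub_smul, one_smul]
        abel
      intro a ha
      have := hU ha 1 one_pos
      rwa [one_smul] at this
    have := hT he a ha
    rwa [add_sub_cancel] at this

section Topology

variable [Module.Finite ℝ (NumR.N1R k X)]

/-- The big cone is the interior of the pseudo-effective cone, whose closure it is. -/
theorem bigCone_eq_interior {H : X.Modules} (hH : CohB1.IsAmple H) :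
    (NumR.coneOf k X IsBig : Set (NumR.N1R k X)) = interior (NumR.psefCone k X) ∧
      NumR.psefCone k X = closure (NumR.coneOf k X IsBig : Set (NumR.N1R k X)) := by
  classical
  haveI := isNoetherian' k (X := X)
  haveI := isSeparated' k (X := X)
  haveI : IsTopologicalAddGroup (NumR.N1R k X) := IsModuleTopology.topologicalAddGroup ℝ _
  let K := NumR.ampleCone k X
  let Bg := NumR.coneOf k X IsBig
  have hint : ∀ {A : X.Modules} (hA : CohB1.IsAmple A), NumR.clR k X A hA.1 ∈ interior (K : Set (NumR.N1R k X)) := by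
    intro A hA
    obtain ⟨d, c, f, hf, hc⟩ := exists_basis k (X := X)
    let a := NumR.clR k X A hA.1
    have hpm : ∀ i, ∃ N₀ : ℕ, ∀ N : ℕ, N₀ ≤ N → (N : ℝ) • a + c i ∈ K ∧ (N : ℝ) • a - c i ∈ K := by
      intro i
      obtain ⟨f', hf', ⟨e₀⟩⟩ := H11Sym.exists_inverse (hf i)
      obtain ⟨n₁, -, h₁⟩ := eventually_ample_tensor hA (hf i)
      obtain ⟨n₂, -, h₂⟩ := eventually_ample_tensor hA hf'
      obtain ⟨e⟩ : Nonempty (CohB1.tensorMod (f i) f' ≅ Coh.structureModule X) :=
        (PicGrp.cls_mul_cls_eq_one_iff (hf i) hf').1 (by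
          rw [mul_comm]; exact (PicGrp.cls_mul_cls_eq_one_iff hf' (hf i)).2 ⟨e₀⟩)
      refine ⟨max n₁ n₂, fun N hN => ⟨?_, ?_⟩⟩
      · have h : NumR.clR k X _ (h₁ N (le_of_max_le_left hN)).1.1 ∈ K :=
          ConvexCone.subset_hull ⟨_, _, (h₁ N (le_of_max_le_left hN)).1, rfl⟩
        rwa [clR_tensor k (isInvertible_tensorPow hA.1 N) (hf i), clR_pow k hA.1, ← hc] at h
      · have h : NumR.clR k X _ (h₂ N (le_of_max_le_right hN)).1.1 ∈ K :=
          ConvexCone.subset_hull ⟨_, _, (h₂ N (le_of_max_le_right hN)).1, rfl⟩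
        rwa [clR_tensor k (isInvertible_tensorPow hA.1 N) hf', clR_pow k hA.1,
          clR_inv k (hf i) hf' e, ← hc, ← sub_eq_add_neg] at h
    choose N₀ hN using hpm
    let N : ℕ := Finset.univ.sup N₀ + 1
    have hNle : ∀ i, N₀ i ≤ N := fun i => (Finset.le_sup (Finset.mem_univ i)).trans (Nat.le_succ _)
    have hNpos : (0 : ℝ) < N := Nat.cast_pos.2 (Nat.succ_pos _)
    have key : ∀ (t : Finset (Fin d)) (r : ℝ) (s : Fin d → ℝ), (∑ i ∈ t, |s i|) * N < r →
        r • a + ∑ i ∈ t, s i • c i ∈ K := by
      intro t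
      induction t using Finset.induction_on with
      | empty =>
        intro r s hr
        rw [Finset.sum_empty, zero_mul] at hr
        rw [Finset.sum_empty, add_zero]
        exact K.smul_mem hr (ConvexCone.subset_hull ⟨A, hA.1, hA, rfl⟩)
      | insert j t hj ih =>
        intro r s hr
        rw [Finset.sum_insert hj, add_mul] at hr
        rw [Finset.sum_insert hj]
        have h0 : 0 ≤ |s j| * N := mul_nonneg (abs_nonneg _) hNpos.le
        have h' := ih (r - |s j| * N) s (by linarith)
        rcases lt_trichotomy (s j) 0 with hs | hs | hs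
        · have h1 := K.smul_mem (neg_pos.2 hs) (hN j N (hNle j)).2
          convert K.add_mem h1 h' using 1
          rw [abs_of_neg hs]
          module
        · rw [hs, zero_smul, zero_add]
          exact ih r s (by rw [hs, abs_zero, zero_mul, zero_add] at hr; exact hr)
        · have h1 := K.smul_mem hs (hN j N (hNle j)).1
          convert K.add_mem h1 h' using 1
          rw [abs_of_pos hs]
          module
    have hco : Continuous fun x : NumR.N1R k X => c.equivFun (x - a) :=
      (IsModuleTopology.continuous_of_linearMap c.equivFun.toLinearMap).comp (continuous_id.sub continuous_const)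
    rw [mem_interior]
    refine ⟨{x | (∑ i, |c.equivFun (x - a) i|) * N < 1}, fun x hx => ?_, ?_, ?_⟩
    · have h := key Finset.univ 1 (c.equivFun (x - a)) hx
      rw [one_smul, c.sum_equivFun (x - a), add_sub_cancel] at h
      exact h
    · exact isOpen_lt ((continuous_finsetSum _ fun i _ => ((continuous_apply i).comp hco).abs).mul continuous_const)
        continuous_const
    · show (∑ i, |c.equivFun (a - a) i|) * (N : ℝ) < 1
      simp
  let h := NumR.clR k X H hH.1
  have hh : h ∈ K := ConvexCone.subset_hull ⟨H, hH.1, hH, rfl⟩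
  have hmem := fun x => mem_bigCone_iff k hH x
  have hsub : (Bg : Set (NumR.N1R k X)) ⊆ NumR.effCone k X := fun x hx => by
    obtain ⟨a, ha, he⟩ := (hmem x).1 hx
    have := (NumR.effCone k X).add_mem (ampleCone_le_effCone k ha) he
    rwa [add_sub_cancel] at this
  -- the big cone is open: every translate of the interior of the ample cone stays in it
  let KI : ConvexCone ℝ (NumR.N1R k X) :=
    { carrier := interior (K : Set (NumR.N1R k X))
      smul_mem' := fun c hc x hx => by
        have h : (fun y : NumR.N1R k X => c • y) '' interior (K : Set (NumR.N1R k X)) ⊆ interior (K : Set (NumR.N1R k X)) :=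
          interior_maximal (Set.image_subset_iff.2 fun y hy => K.smul_mem hc (interior_subset hy))
            ((isOpenMap_smul₀ hc.ne') _ isOpen_interior)
        exact h ⟨x, hx, rfl⟩
      add_mem' := fun x hx y hy => by
        have h : (fun z : NumR.N1R k X => x + z) '' interior (K : Set (NumR.N1R k X)) ⊆ interior (K : Set (NumR.N1R k X)) :=
          interior_maximal (Set.image_subset_iff.2 fun z hz => K.add_mem (interior_subset hx) (interior_subset hz))
            ((isOpenMap_add_left x) _ isOpen_interior)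
        exact h ⟨y, hy, rfl⟩ }
  have hKI : K ≤ KI := ConvexCone.hull_min fun x hx => by
    obtain ⟨L, hL, hA, rfl⟩ := hx
    exact hint hA
  have hopen : IsOpen (Bg : Set (NumR.N1R k X)) := by
    refine isOpen_iff_mem_nhds.2 fun x hx => ?_
    obtain ⟨a, ha, he⟩ := (hmem x).1 hx
    have ho : IsOpen ((fun z : NumR.N1R k X => z - (x - a)) ⁻¹' interior (K : Set (NumR.N1R k X))) :=
      isOpen_interior.preimage (continuous_id.sub continuous_const)
    refine Filter.mem_of_superset (ho.mem_nhds (show x - (x - a) ∈ _ by rw [sub_sub_cancel]; exact hKI ha)) ?_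
    intro z hz
    refine (hmem z).2 ⟨z - (x - a), interior_subset hz, ?_⟩
    rwa [sub_sub_cancel]
  refine ⟨subset_antisymm (interior_maximal (hsub.trans subset_closure) hopen) ?_, ?_⟩
  · intro x hx
    have hne : ∀ᶠ ε : ℝ in nhdsWithin 0 (Set.Ioi 0), x - ε • h ∈ interior (NumR.psefCone k X) := by
      have hc : Filter.Tendsto (fun ε : ℝ => x - ε • h) (nhdsWithin 0 (Set.Ioi 0)) (nhds x) := by
        have : Continuous fun ε : ℝ => x - ε • h := by fun_prop
        have h0 := (this.tendsto 0).mono_left (nhdsWithin_le_nhds (s := Set.Ioi 0))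
        simpa using h0
      exact hc (isOpen_interior.mem_nhds hx)
    obtain ⟨ε, hε, hεpos⟩ := (hne.and self_mem_nhdsWithin).exists
    have hK' : ε • h ∈ interior (K : Set (NumR.N1R k X)) := hKI (K.smul_mem hεpos hh)
    have ho : IsOpen ((fun z : NumR.N1R k X => x - z) ⁻¹' interior (K : Set (NumR.N1R k X))) :=
      isOpen_interior.preimage (continuous_const.sub continuous_id)
    have hy : x - ε • h ∈ closure (NumR.effCone k X : Set (NumR.N1R k X)) := interior_subset hε
    obtain ⟨e, he1, he2⟩ := mem_closure_iff.1 hy _ ho (by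
      rw [Set.mem_preimage, sub_sub_cancel]
      exact hK')
    exact (hmem x).2 ⟨x - e, interior_subset he1, by rwa [sub_sub_cancel]⟩
  · refine subset_antisymm (closure_minimal (fun e he => ?_) isClosed_closure) (closure_mono hsub)
    have hc : Filter.Tendsto (fun ε : ℝ => ε • h + e) (nhdsWithin 0 (Set.Ioi 0)) (nhds e) := by
      have : Continuous fun ε : ℝ => ε • h + e := by fun_prop
      have h0 := (this.tendsto 0).mono_left (nhdsWithin_le_nhds (s := Set.Ioi 0))
      simpa using h0
    refine mem_closure_of_tendsto hc ?_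
    filter_upwards [self_mem_nhdsWithin] with ε hε
    exact (hmem _).2 ⟨ε • h, K.smul_mem hε hh, by rwa [add_sub_cancel_left]⟩

end Topology

end Groth.Agent.H26Num
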